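import Cfsg.Agent.H939.L64.DefT
import Cfsg.Agent.H943.RepAdd

/-!
# Torus data with a given root of unity (helper413, S5915)

`T0a` (simple reflections), `T0b` (units), `T0c` (existence), `T0d` (multiplicities of the eigenvalues).
-/

set_option autoImplicit false
set_option linter.unusedSectionVars false
set_option maxRecDepth 100000

namespace Cfsg.Agent.H413.L64

open Cfsg Cfsg.Lie Cfsg.Lie.ChevalleyDatum
open Cfsg.Agent.ChevalleyStructure Cfsg.Agent.ChevalleyStructure.CoxeterGeom
  Cfsg.Agent.ChevalleyStructure.Elts Cfsg.Agent.ChevalleyStructure.CoxeterGeomTypes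
open Cfsg.Agent.Tits.Roots Cfsg.Agent.Nodes.Reps Cfsg.Agent.Nodes.BNOf Cfsg.Agent.Nodes.RGDChev
  Cfsg.Agent.KFacts.RgdChevCoord
open Cfsg.Agent.BpExc.TorChev Cfsg.Agent.BpExc.TowChev Cfsg.Agent.H129.TorusChar
open Cfsg.Agent.GpExc.Field (emb emb_injective)
open Cfsg.Agent.H942.E8Tab Cfsg.Agent.H942.CB Cfsg.Agent.H944.RootVals Cfsg.Agent.H944.Kac
open Cfsg.Agent.H943.RepAdd
open Cfsg.Agent.H939.L64

theorem charKK : CharP KK 2 := charP_of_injective_algebraMap (algebraMap (ZMod 2) KK).injective 2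

theorem em_inj : Function.Injective em := emb_injective e8T.inList _

/-- torus elements commute -/
theorem TT_comm {s t : ↥(chevE8.group KK)} (hs : s ∈ TT chevE8 KK) (ht : t ∈ TT chevE8 KK) : s * t = t * s :=
  cX_inj e8T (mul_mem hs ht) (mul_mem ht hs) fun i => by
    rw [cX_mul e8T hs ht, cX_mul e8T ht hs, mul_comm]

theorem locKK : LocFin KK := by
  have := charKK
  exact locFin_of_isAlgebraic 2 _

theorem nsysKK : NSys CoxeterMatrix.E₈ (TT chevE8 KK) (nc e8T KK) := by
  have := charKK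
  exact nsysT e8T locKK 2

/-- integral powers -/
theorem zpow_val {N : ℕ} [NeZero N] {ζ : KK} (hζ : IsPrimitiveRoot ζ N) (m : ℤ) : ζ ^ m = ζ ^ ((m : ZMod N).val) := by
  have hζ0 : ζ ≠ 0 := hζ.ne_zero (NeZero.ne N)
  rw [← zpow_natCast, ZMod.val_intCast]
  have h1 : ζ ^ (N : ℤ) = 1 := by rw [zpow_natCast]; exact hζ.pow_eq_one
  conv_lhs => rw [← Int.emod_add_mul_ediv m N]
  rw [zpow_add₀ hζ0, zpow_mul, h1, one_zpow, mul_one]

theorem pow_val {N : ℕ} [NeZero N] {ζ : KK} (hζ : IsPrimitiveRoot ζ N) (m : ℕ) : ζ ^ m = ζ ^ ((m : ZMod N).val) := by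
  have h := zpow_val hζ (m : ℤ)
  rwa [zpow_natCast, Int.cast_natCast] at h

theorem pow_inj_val {N : ℕ} [NeZero N] {ζ : KK} (hζ : IsPrimitiveRoot ζ N) {a b : ZMod N} :
    ζ ^ a.val = ζ ^ b.val ↔ a = b := by
  refine ⟨fun h => ?_, fun h => by rw [h]⟩
  exact ZMod.val_injective N (hζ.pow_inj (ZMod.val_lt a) (ZMod.val_lt b) h)

section

variable {N : ℕ} [NeZero N]

theorem T0a {x : E2} {v : Fin 8 → ZMod N} {ζ : KK} (h : TorZ x N v ζ) (j : Fin 8) : TorZ x N (srefl chevE8 8 j v) ζ := by
  obtain ⟨hζ, z, t, hz, ht, hv⟩ := h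
  have hkch := charKK
  set cs := CoxeterMatrix.E₈.toCoxeterSystem with hcs
  have hn := rp_simple cs nsysKK j
  set n := nc e8T KK j with hn'
  have ht' : n * t * n⁻¹ ∈ TT chevE8 KK := (Subgroup.mem_normalizer_iff.1 hn.mem_normalizer t).1 ht
  have hζ0 : ζ ≠ 0 := hζ.ne_zero (NeZero.ne N)
  refine ⟨hζ, z * n⁻¹, n * t * n⁻¹, ?_, ht', fun i => ?_⟩
  · rw [← hz]
    group
  · have h1 := cX_rp e8T cs locKK 2 hn ht (rep cs e8T.isCartan (cs.simple j) (sr i))
    rw [← rep_mul_apply, cs.simple_mul_simple_self, map_one, Module.End.one_apply] at h1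
    rw [h1, rep_simple_eq, (isMC_cX e8T ht).sub, (isMC_cX e8T ht).zsmul, hv i, hv j]
    have h2 : pairing (cartanOf chevE8 8) j (sr i) = cartanOf chevE8 8 j i := by
      unfold pairing
      rw [Finset.sum_eq_single i]
      · rw [sr_self, mul_one]
      · intro b _ hb
        rw [sr_ne hb, mul_zero]
      · intro h
        exact absurd (Finset.mem_univ i) h
    rw [h2, ← zpow_natCast, ← zpow_natCast, ← zpow_mul, ← zpow_sub₀ hζ0, zpow_val hζ]
    congr 2
    unfold Cfsg.Agent.H944.Kac.srefl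
    push_cast
    rw [ZMod.natCast_zmod_val, ZMod.natCast_zmod_val, mul_comm]

theorem prim_unit {ζ : KK} (hζ : IsPrimitiveRoot ζ N) (u : (ZMod N)ˣ) : IsPrimitiveRoot (ζ ^ (u : ZMod N).val) N :=
  hζ.pow_of_coprime _ (ZMod.val_coe_unit_coprime u)

theorem pow_unit {ζ : KK} (hζ : IsPrimitiveRoot ζ N) (a b : ZMod N) : (ζ ^ a.val) ^ b.val = ζ ^ (a * b).val := by
  rw [← pow_mul, pow_val hζ]
  congr 2
  push_cast
  rw [ZMod.natCast_zmod_val, ZMod.natCast_zmod_val]

theorem T0b {x : E2} {v : Fin 8 → ZMod N} {ζ : KK} (u : (ZMod N)ˣ) (h : TorZ x N (fun i => u * v i) ζ) :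
    TorZ x N v (ζ ^ (u : ZMod N).val) := by
  obtain ⟨hζ, z, t, hz, ht, hv⟩ := h
  exact ⟨prim_unit hζ u, z, t, hz, ht, fun i => by rw [hv, pow_unit hζ]⟩

theorem rv_smul (a : ZMod N) (v : Fin 8 → ZMod N) (s : ℕ) : rv chevE8 8 (fun i => a * v i) s = a * rv chevE8 8 v s := by
  unfold rv
  rw [Finset.mul_sum]
  exact Finset.sum_congr rfl fun i _ => by ring

theorem ms_smul (a : ZMod N) (v : Fin 8 → ZMod N) :
    ms chevE8 8 (fun i => a * v i) = (ms chevE8 8 v).map (fun b => a * b) := by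
  rw [ms_eq, ms_eq, Multiset.map_map]
  exact Multiset.map_congr rfl fun s _ => rv_smul a v s

theorem T0c {x : E2} (hN : N.Coprime 2) (hx : x ^ N = 1) {ζ : KK} (hζ : IsPrimitiveRoot ζ N) :
    ∃ v : Fin 8 → ZMod N, TorZ x N v ζ ∧ (ms chevE8 8 v).map (fun a => 2 * a) = ms chevE8 8 v ∧
      ∀ d : ℕ, x ^ d = 1 ↔ ∀ i, (d : ZMod N) * v i = 0 := by
  obtain ⟨v, ⟨z, t, ζ', hζ', hz, ht, hv⟩, hV, -⟩ := exists_valsTor e8T 2 (NeZero.ne N) hN hx KK
  obtain ⟨a, ha, hac, rfl⟩ := (hζ.isPrimitiveRoot_iff).1 hζ'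
  obtain ⟨u, hu⟩ : ∃ u : (ZMod N)ˣ, (u : ZMod N) = a := ⟨ZMod.unitOfCoprime a hac, ZMod.coe_unitOfCoprime a hac⟩
  refine ⟨fun i => u * v i, ⟨hζ, z, t, hz, ht, fun i => ?_⟩, ?_, fun d => ?_⟩
  · rw [hv, ← pow_mul, pow_val hζ]
    congr 2
    push_cast
    rw [ZMod.natCast_zmod_val, hu]
  · have h1 := hV.frob
    rw [Nat.card_zmod] at h1
    rw [ms_smul, Multiset.map_map]
    conv_rhs => rw [h1, Multiset.map_map]
    refine Multiset.map_congr rfl fun b _ => ?_
    simp only [Function.comp_apply]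
    push_cast
    ring
  · rw [← hV.ord d]
    refine forall_congr' fun i => ?_
    rw [show (d : ZMod N) * (u * v i) = u * (d * v i) by ring, u.isUnit.mul_right_eq_zero]

/-- the dimension of the kernel of a diagonal matrix -/
theorem finrank_ker_diag {n : Type} [Fintype n] [DecidableEq n] (w : n → KK) [DecidablePred fun i => w i = 0] :
    Module.finrank KK (LinearMap.ker (Matrix.mulVecLin (Matrix.diagonal w))) =
      (Finset.univ.val.filter fun i => w i = 0).card := by
  have h1 := LinearMap.finrank_range_add_finrank_ker (Matrix.mulVecLin (Matrix.diagonal w))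
  have h2 : Module.finrank KK (LinearMap.range (Matrix.mulVecLin (Matrix.diagonal w))) = Nat.card {i // w i ≠ 0} := by
    classical
    have key : ∀ F1 : Fintype {i // w i ≠ 0}, @Fintype.card _ F1 = Nat.card {i // w i ≠ 0} := fun F1 =>
      (@Nat.card_eq_fintype_card _ F1).symm
    exact (Matrix.rank_diagonal w).trans (key _)
  rw [h2, Nat.card_eq_fintype_card, Module.finrank_fintype_fun_eq_card, Fintype.card_subtype_compl, Fintype.card_subtype] at h1
  have h3 : (Finset.univ.filter fun i => w i = 0).card ≤ Fintype.card n := Finset.card_le_univ _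
  have h4 : (Finset.univ.val.filter fun i => w i = 0).card = (Finset.univ.filter fun i => w i = 0).card := rfl
  rw [h4]
  omega

/-- the diagonal entries -/
theorem cX_rv {t : ↥(chevE8.group KK)} (ht : t ∈ TT chevE8 KK) {ζ : KK} (hζ : IsPrimitiveRoot ζ N)
    {v : Fin 8 → ZMod N} (hv : ∀ i, cX e8T t (sr i) = ζ ^ (v i).val) (s : ℕ) :
    cX e8T t (vec chevE8 8 s) = ζ ^ (rv chevE8 8 v s).val := by
  have hζ0 : ζ ≠ 0 := hζ.ne_zero (NeZero.ne N)
  rw [(isMC_cX e8T ht).eq_prod]
  have h3 : ∀ S : Finset (Fin 8), ∏ i ∈ S, cX e8T t (sr i) ^ vec chevE8 8 s i =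
      ζ ^ (∑ i ∈ S, vec chevE8 8 s i * ((v i).val : ℤ)) := by
    intro S
    classical
    induction S using Finset.induction_on with
    | empty => rw [Finset.prod_empty, Finset.sum_empty, zpow_zero]
    | insert b S hb ih =>
      rw [Finset.prod_insert hb, Finset.sum_insert hb, ih, zpow_add₀ hζ0, hv b, ← zpow_natCast, ← zpow_mul,
        mul_comm (((v b).val : ℕ) : ℤ)]
  rw [h3, zpow_val hζ]
  congr 2
  unfold rv
  push_cast
  exact Finset.sum_congr rfl fun i _ => by rw [ZMod.natCast_zmod_val]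

theorem T0d {x : E2} {v : Fin 8 → ZMod N} {ζ : KK} (h : TorZ x N v ζ) (a : ZMod N) :
    Module.finrank KK (eig rE x (ζ ^ a.val)) = cntE v a := by
  classical
  obtain ⟨hζ, z, t, hz, ht, hv⟩ := h
  set μ := ζ ^ a.val with hμ
  have hx : em x = z * t * z⁻¹ := by rw [← hz]; group
  -- conjugation
  let Z : LK ≃ₗ[KK] LK :=
    { toFun := fun w => aK z⁻¹ w
      map_add' := fun w w' => Matrix.mulVec_add _ _ _
      map_smul' := fun c w => Matrix.mulVec_smul _ _ _
      invFun := fun w => aK z w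
      left_inv := fun w => by
        show aK z (aK z⁻¹ w) = w
        unfold aK
        rw [Matrix.mulVec_mulVec, ← Units.val_mul, ← Subgroup.coe_mul, mul_inv_cancel, Subgroup.coe_one,
          Units.val_one, Matrix.one_mulVec]
      right_inv := fun w => by
        show aK z⁻¹ (aK z w) = w
        unfold aK
        rw [Matrix.mulVec_mulVec, ← Units.val_mul, ← Subgroup.coe_mul, inv_mul_cancel, Subgroup.coe_one,
          Units.val_one, Matrix.one_mulVec] }
  have hmul : ∀ (g g' : ↥(chevE8.group KK)) (w : LK), aK (g * g') w = aK g (aK g' w) := fun g g' w => by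
    unfold aK
    rw [Matrix.mulVec_mulVec, ← Units.val_mul, ← Subgroup.coe_mul]
  set d : chevE8.Idx → KK :=
    Sum.elim (fun _ => (1 : KK)) (fun s : Fin chevE8.nroots => cX e8T t (vec chevE8 8 s)) with hd
  have hdiag : ∀ w : LK, aK t w = fun i => d i * w i := by
    intro w
    unfold aK
    rw [TT_diag' e8T ht]
    funext i
    rw [Matrix.mulVec_diagonal]
  have h1 : Module.finrank KK (eig rE x μ) =
      Module.finrank KK (LinearMap.ker (Matrix.mulVecLin (Matrix.diagonal fun i => d i - μ))) := by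
    refine LinearEquiv.finrank_eq (Z.submoduleMap (eig rE x μ) |>.trans (LinearEquiv.ofEq _ _ ?_))
    ext w
    rw [Submodule.mem_map, LinearMap.mem_ker]
    constructor
    · rintro ⟨w', hw', rfl⟩
      have hw1 := (mem_eig rE).1 hw'
      rw [rE_apply, hx, hmul, hmul] at hw1
      have h3 : aK t (Z w') = μ • Z w' := by
        have h4 := congrArg Z hw1
        rw [map_smul] at h4
        rw [← h4]
        show aK t (aK z⁻¹ w') = aK z⁻¹ (aK z (aK t (aK z⁻¹ w')))
        rw [← hmul z⁻¹ z, inv_mul_cancel]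
        unfold aK
        rw [Subgroup.coe_one, Units.val_one, Matrix.one_mulVec]
      rw [hdiag] at h3
      funext i
      have h5 := congrFun h3 i
      rw [Matrix.mulVecLin_apply, Matrix.mulVec_diagonal, Pi.zero_apply, sub_mul, sub_eq_zero]
      exact h5
    · intro hw
      refine ⟨Z.symm w, ?_, Z.apply_symm_apply w⟩
      rw [mem_eig, rE_apply, hx, hmul, hmul]
      have h3 : aK z⁻¹ (Z.symm w) = w := Z.apply_symm_apply w
      rw [h3, hdiag]
      have h4 : (fun i => d i * w i) = μ • w := by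
        funext i
        have h5 := congrFun hw i
        rw [Matrix.mulVecLin_apply, Matrix.mulVec_diagonal, Pi.zero_apply, sub_mul, sub_eq_zero] at h5
        exact h5
      rw [h4]
      show Z.symm (μ • w) = μ • Z.symm w
      rw [map_smul]
  rw [h1, finrank_ker_diag]
  have h2 : ((Finset.univ : Finset chevE8.Idx).val.filter fun i => d i - μ = 0).card =
      ((Finset.univ : Finset (Fin chevE8.rank)).val.filter fun _ => (1 : KK) - μ = 0).card +
      ((Finset.univ : Finset (Fin chevE8.nroots)).val.filter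
        fun s : Fin chevE8.nroots => cX e8T t (vec chevE8 8 s) - μ = 0).card := by
    have h3 : (Finset.univ : Finset chevE8.Idx).val =
        (Finset.univ : Finset (Fin chevE8.rank)).val.map Sum.inl + (Finset.univ : Finset (Fin chevE8.nroots)).val.map Sum.inr := rfl
    rw [h3, Multiset.filter_add, Multiset.card_add, Multiset.filter_map, Multiset.filter_map, Multiset.card_map,
      Multiset.card_map]
    rfl
  rw [h2, add_comm, cntE]
  congr 1
  · rw [Multiset.count, Multiset.countP_eq_card_filter, ms_eq, Multiset.filter_map, Multiset.card_map]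
    congr 1
    refine Multiset.filter_congr fun s _ => ?_
    rw [cX_rv ht hζ hv, sub_eq_zero, hμ, pow_inj_val hζ]
    exact eq_comm
  · by_cases ha : a = 0
    · rw [if_pos ha, Multiset.filter_eq_self.2]
      · rfl
      · intro _ _
        rw [hμ, ha, ZMod.val_zero, pow_zero, sub_self]
    · rw [if_neg ha, Multiset.filter_eq_nil.2]
      · rfl
      · intro _ _ h3
        apply ha
        rw [sub_eq_zero, hμ, ← pow_zero ζ] at h3
        have h4 : ζ ^ (0 : ZMod N).val = ζ ^ a.val := by rw [ZMod.val_zero]; exact h3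
        exact ((pow_inj_val hζ).1 h4).symm

end

end Cfsg.Agent.H413.L64
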