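import Cfsg.Agent.H413.L64.Stab
import Cfsg.Agent.H942.CB.E8Tor
import Cfsg.Agent.H897.T5UntwRow

/-!
# The twisted frame of an element of `E₈(q)` with given alcove vector (helper413, S5915)

`frame8` : if `x ∈ E₈(F)` has the torus data `v : (ZMod N)^8` and `w` is an element of the Weyl group with `v ∘ w = q v`,
then for every representative `m` of `w` there is `z` over the algebraic closure with `z⁻¹ σ(z) = m` and `z⁻¹ x z` in the
torus, with the character given by `v`.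
-/

set_option autoImplicit false
set_option linter.unusedSectionVars false

namespace Cfsg.Agent.H413.L64

open CoxeterSystem Cfsg Cfsg.Lie Cfsg.Lie.ChevalleyDatum
open Cfsg.Agent.ChevalleyStructure Cfsg.Agent.ChevalleyStructure.Elts Cfsg.Agent.ChevalleyStructure.CoxeterGeom
  Cfsg.Agent.ChevalleyStructure.CoxeterGeomTypes Cfsg.Agent.ChevalleyStructure.NPerm
open Cfsg.Agent.Tits.Roots Cfsg.Agent.Tits.Core Cfsg.Agent.Nodes Cfsg.Agent.Nodes.Reps Cfsg.Agent.Nodes.BNOf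
  Cfsg.Agent.Nodes.RGDChev Cfsg.Agent.Nodes.Bruhat Cfsg.Agent.Nodes.SubComb Cfsg.Agent.Nodes.Coroot
open Cfsg.Agent.KFacts.RgdField Cfsg.Agent.KFacts.RgdChevCoord Cfsg.Agent.BpExc.TorCent Cfsg.Agent.BpExc.TorChev
open Cfsg.Agent.GpExc.Field Cfsg.Agent.BpExc.Tow Cfsg.Agent.BpExc.TowChev Cfsg.Agent.BpExc.Fr
  Cfsg.Agent.BpExc.LangFr Cfsg.Agent.LangThm Cfsg.Agent.BpExc Cfsg.Agent.H129.TorusMain
open Cfsg.Agent.H129.TorusChar (cX cX_pow cX_one cX_inj isMC_cX cX_root cX_rp ch_sigma)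
open Cfsg.Agent.H720.TorusReal Cfsg.Agent.H897
open Cfsg.Agent.H897.T5Lat (Frm bf bf_apply)
open Cfsg.Agent.H897.T5Cent (Con star)
open Cfsg.Agent.H897.T5UntwRow (A8 par8 n8)
open Cfsg.Agent.H378.TorFin (phi_emb')
open Cfsg.Agent.BpExc.RowsUntw (e8T)
open Cfsg.Agent.BpExc.FamInst
open Cfsg.Agent.BpExc.FamUntw
open Cfsg.Agent.H942.CB (TorD)

/-- the integer value of `v` on a lattice vector -/
def vl {N : ℕ} (v : Fin 8 → ZMod N) (a : Fin 8 → ℤ) : ℤ := ∑ i, a i * ((v i).val : ℤ)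

theorem cX_eq_zpow {k : Type*} [Field k] {t : ↥(chevE8.group k)} (ht : t ∈ TT chevE8 k) {ζ : k} (hζ : ζ ≠ 0) {N : ℕ}
    {v : Fin 8 → ZMod N} (hv : ∀ i, cX e8T t (sr i) = ζ ^ (v i).val) (a : Fin 8 → ℤ) : cX e8T t a = ζ ^ vl v a := by
  rw [(isMC_cX e8T ht).eq_prod a, vl]
  have h3 : ∀ s : Finset (Fin 8), ∏ i ∈ s, cX e8T t (sr i) ^ a i = ζ ^ (∑ i ∈ s, a i * ((v i).val : ℤ)) := by
    intro s
    classical
    induction s using Finset.induction_on with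
    | empty => rw [Finset.prod_empty, Finset.sum_empty, zpow_zero]
    | insert b s hb ih =>
      rw [Finset.prod_insert hb, Finset.sum_insert hb, ih, zpow_add₀ hζ, hv b, ← zpow_natCast, ← zpow_mul,
        mul_comm (((v b).val : ℕ) : ℤ) (a b)]
  exact h3 _

section

variable {F : Type} [Field F] [Finite F] (r n : ℕ) [Fact r.Prime] [CharP F r] (hn : Nat.card F = r ^ n)
  [CharP (AlgebraicClosure F) r] {N : ℕ} (hN0 : N ≠ 0) (hNr : N.Coprime r)

local notation "kk" => AlgebraicClosure F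

include hN0 in
omit [CharP F r] in
/-- the twisted Frobenius map fixes a torus element whose values are multiplied by `q` under `w` -/
theorem twist_fix (hk : LocFin kk) {t : ↥(chevE8.group kk)} {ζ : kk} {v : Fin 8 → ZMod N} (hζ : IsPrimitiveRoot ζ N)
    (ht : t ∈ TT chevE8 kk) (hv : ∀ i, cX e8T t (sr i) = ζ ^ (v i).val)
    {w : CoxeterMatrix.E₈.Group}
    (hw : ∀ i, (N : ℤ) ∣ vl v (rep CoxeterMatrix.E₈.toCoxeterSystem e8T.isCartan w (sr i)) - (r ^ n : ℕ) * vl v (sr i))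
    {hN : NSys CoxeterMatrix.E₈ (TT chevE8 kk) (nc e8T kk)} {m : ↥(chevE8.group kk)}
    (hm : Rp CoxeterMatrix.E₈.toCoxeterSystem hN w m) : m * phi chevE8 kk r n t * m⁻¹ = t := by
  have hζ0 : ζ ≠ 0 := hζ.ne_zero hN0
  have hc := cX_eq_zpow ht hζ0 hv
  have hσf := phi_isFrob (D := chevE8) (k := kk) r n
  have hσF := phi_fr e8T CoxeterMatrix.E₈.toCoxeterSystem r hk n
  have hzN : ∀ a : ℤ, ζ ^ ((N : ℤ) * a) = 1 := fun a => by
    rw [zpow_mul, zpow_natCast, hζ.pow_eq_one, one_zpow]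
  have hσt : phi chevE8 kk r n t ∈ TT chevE8 kk := (hσF.tor t).2 ht
  have hmt : m * phi chevE8 kk r n t * m⁻¹ ∈ TT chevE8 kk :=
    (Subgroup.mem_normalizer_iff.1 hm.mem_normalizer _).1 hσt
  have hcσ : ∀ a, cX e8T (phi chevE8 kk r n t) a = cX e8T t a ^ r ^ n := by
    have hmc : H129.TorusChar.IsMC fun a => cX e8T t a ^ r ^ n := by
      refine ⟨by rw [(isMC_cX e8T ht).zero, one_pow], fun a b => ?_⟩
      rw [(isMC_cX e8T ht).add, mul_pow]
    refine fun a => (isMC_cX e8T hσt).ext hmc (fun i => ?_) a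
    have h1 := ch_sigma e8T CoxeterMatrix.E₈.toCoxeterSystem hσf hσF
      (isRoot_sr CoxeterMatrix.E₈.toCoxeterSystem e8T.isCartan i) ht
    show cX e8T (phi chevE8 kk r n t) (sr i) = cX e8T t (sr i) ^ r ^ n
    rw [cX_root e8T CoxeterMatrix.E₈.toCoxeterSystem hσt (isRoot_sr _ e8T.isCartan i),
      cX_root e8T CoxeterMatrix.E₈.toCoxeterSystem ht (isRoot_sr _ e8T.isCartan i)]
    exact h1
  refine cX_inj e8T hmt ht ?_
  have h1 : H129.TorusChar.IsMC fun a => cX e8T t (repAut CoxeterMatrix.E₈.toCoxeterSystem e8T.isCartan w a) :=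
    (isMC_cX e8T ht).comp (repAut CoxeterMatrix.E₈.toCoxeterSystem e8T.isCartan w).toAddMonoidHom
  have h2 : ∀ a, cX e8T (m * phi chevE8 kk r n t * m⁻¹)
      (rep CoxeterMatrix.E₈.toCoxeterSystem e8T.isCartan w a) = cX e8T t a ^ r ^ n := fun a => by
    rw [cX_rp e8T CoxeterMatrix.E₈.toCoxeterSystem hk r hm hσt a, hcσ]
  have h3 : ∀ a, cX e8T t (rep CoxeterMatrix.E₈.toCoxeterSystem e8T.isCartan w a) = cX e8T t a ^ r ^ n := by
    have hmc : H129.TorusChar.IsMC fun a => cX e8T t a ^ r ^ n := by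
      refine ⟨by rw [(isMC_cX e8T ht).zero, one_pow], fun a b => ?_⟩
      rw [(isMC_cX e8T ht).add, mul_pow]
    refine fun a => h1.ext hmc (fun i => ?_) a
    show cX e8T t (rep CoxeterMatrix.E₈.toCoxeterSystem e8T.isCartan w (sr i)) = cX e8T t (sr i) ^ r ^ n
    obtain ⟨b, hb⟩ := hw i
    rw [hc, hc, ← zpow_natCast, ← zpow_mul]
    have h4 : vl v (rep CoxeterMatrix.E₈.toCoxeterSystem e8T.isCartan w (sr i)) =
        vl v (sr i) * ((r ^ n : ℕ) : ℤ) + (N : ℤ) * b := by linarith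
    rw [h4, zpow_add₀ hζ0, hzN, mul_one]
  intro i
  have h4 := h2 ((repAut CoxeterMatrix.E₈.toCoxeterSystem e8T.isCartan w).symm (sr i))
  have h5 : rep CoxeterMatrix.E₈.toCoxeterSystem e8T.isCartan w
      ((repAut CoxeterMatrix.E₈.toCoxeterSystem e8T.isCartan w).symm (sr i)) = sr i :=
    (repAut CoxeterMatrix.E₈.toCoxeterSystem e8T.isCartan w).apply_symm_apply (sr i)
  rw [h5] at h4
  rw [h4, ← h3, h5]

include hn hN0 hNr in
/-- the frame of a torus element with given values -/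
theorem frame8z (hk : LocFin kk) (hn0 : 0 < n) {x : ↥(chevE8.group F)} {z t : ↥(chevE8.group kk)} {ζ : kk}
    {v : Fin 8 → ZMod N} (hζ : IsPrimitiveRoot ζ N) (hz : z⁻¹ * emb e8T.inList (algebraMap F kk) x * z = t)
    (ht : t ∈ TT chevE8 kk) (hv : ∀ i, cX e8T t (sr i) = ζ ^ (v i).val)
    {w : CoxeterMatrix.E₈.Group}
    (hw : ∀ i, (N : ℤ) ∣ vl v (rep CoxeterMatrix.E₈.toCoxeterSystem e8T.isCartan w (sr i)) - (r ^ n : ℕ) * vl v (sr i))
    {hN : NSys CoxeterMatrix.E₈ (TT chevE8 kk) (nc e8T kk)} {m : ↥(chevE8.group kk)}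
    (hm : Rp CoxeterMatrix.E₈.toCoxeterSystem hN w m) :
    ∃ z : ↥(chevE8.group kk), z⁻¹ * emb e8T.inList (algebraMap F kk) x * z = t ∧ z⁻¹ * phi chevE8 kk r n z = m := by
  have hζ0 : ζ ≠ 0 := hζ.ne_zero hN0
  have hc := cX_eq_zpow ht hζ0 hv
  have hFinW : Finite CoxeterMatrix.E₈.Group := finite_W e8T CoxeterMatrix.E₈.toCoxeterSystem
  have hFrm := par8.frm (CoxeterMatrix.E₈.toCoxeterSystem) e8T.isCartan (fun i j => (n8 i j).1) (fun i j => (n8 i j).2)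
  have hC : Con e8T CoxeterMatrix.E₈.toCoxeterSystem hk r N :=
    con_of_coprime e8T CoxeterMatrix.E₈.toCoxeterSystem hk r hN0 hNr inv_E8 (Nat.coprime_one_left _) hFrm
  have hσf := phi_isFrob (D := chevE8) (k := kk) r n
  have hσF := phi_fr e8T CoxeterMatrix.E₈.toCoxeterSystem r hk n
  have hzN : ∀ a : ℤ, ζ ^ ((N : ℤ) * a) = 1 := fun a => by
    rw [zpow_mul, zpow_natCast, hζ.pow_eq_one, one_zpow]
  have htN : t ^ N = 1 := by
    refine cX_inj e8T (pow_mem ht N) (one_mem _) fun i => ?_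
    rw [cX_pow e8T ht, cX_one, hc, ← zpow_natCast, ← zpow_mul, mul_comm, hzN]
  obtain ⟨z1, h1, h2⟩ := star e8T CoxeterMatrix.E₈.toCoxeterSystem hk r hC hn0 hσf hσF inv_E8 one_ne_zero hm
    (phi_emb' e8T (algebraMap F kk) r hn x) hz ht htN (twist_fix r n hN0 hk hζ ht hv hw hm)
  exact ⟨z1, h2, h1⟩

include hn hN0 hNr in
theorem frame8 (hk : LocFin kk) (hn0 : 0 < n) {x : ↥(chevE8.group F)} {v : Fin 8 → ZMod N} (hT : TorD e8T x N v)
    {w : CoxeterMatrix.E₈.Group}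
    (hw : ∀ i, (N : ℤ) ∣ vl v (rep CoxeterMatrix.E₈.toCoxeterSystem e8T.isCartan w (sr i)) - (r ^ n : ℕ) * vl v (sr i))
    {hN : NSys CoxeterMatrix.E₈ (TT chevE8 kk) (nc e8T kk)} {m : ↥(chevE8.group kk)}
    (hm : Rp CoxeterMatrix.E₈.toCoxeterSystem hN w m) :
    ∃ (z t : ↥(chevE8.group kk)) (ζ : kk), IsPrimitiveRoot ζ N ∧
      z⁻¹ * emb e8T.inList (algebraMap F kk) x * z = t ∧ t ∈ TT chevE8 kk ∧
      (∀ a, cX e8T t a = ζ ^ vl v a) ∧ z⁻¹ * phi chevE8 kk r n z = m := by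
  obtain ⟨z, t, ζ, hζ, hz, ht, hv⟩ := hT
  obtain ⟨z1, h1, h2⟩ := frame8z r n hn hN0 hNr hk hn0 hζ hz ht hv hw hm
  exact ⟨z1, t, ζ, hζ, h1, ht, cX_eq_zpow ht (hζ.ne_zero hN0) hv, h2⟩

end

end Cfsg.Agent.H413.L64
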