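import Cfsg.Agent.H897.T5Cent

/-!
# Stabilisers in the Weyl group of torus elements of any order prime to the characteristic (helper413, S5915)

`con_of_coprime` : the composite order version of `H897.T5Cent.con_of_frm`.
-/

set_option autoImplicit false
set_option linter.unusedSectionVars false

namespace Cfsg.Agent.H413.L64

open CoxeterSystem Cfsg Cfsg.Lie Cfsg.Lie.ChevalleyDatum
open Cfsg.Agent.ChevalleyStructure Cfsg.Agent.ChevalleyStructure.Elts Cfsg.Agent.ChevalleyStructure.CoxeterGeom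
  Cfsg.Agent.ChevalleyStructure.CoxeterGeomTypes Cfsg.Agent.ChevalleyStructure.NPerm
open Cfsg.Agent.Tits.Roots Cfsg.Agent.Tits.Core Cfsg.Agent.Nodes Cfsg.Agent.Nodes.Reps Cfsg.Agent.Nodes.BNOf
  Cfsg.Agent.Nodes.RGDChev Cfsg.Agent.Nodes.Bruhat Cfsg.Agent.Nodes.SubComb Cfsg.Agent.Nodes.Coroot
open Cfsg.Agent.KFacts.RgdField Cfsg.Agent.KFacts.RgdChevCoord Cfsg.Agent.BpExc.TorCent Cfsg.Agent.BpExc.TorChev
open Cfsg.Agent.GpExc.Field Cfsg.Agent.BpExc.Tow Cfsg.Agent.BpExc.TowChev Cfsg.Agent.BpExc.Fr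
  Cfsg.Agent.BpExc.LangFr Cfsg.Agent.LangThm Cfsg.Agent.BpExc Cfsg.Agent.H129.TorusChar Cfsg.Agent.H129.TorusMain
open Cfsg.Agent.H795.SetCent Cfsg.Agent.H795.SetTor Cfsg.Agent.H720.TorusReal
open Cfsg.Agent.H897.T5Lat (Frm bf bf_apply)
open Cfsg.Agent.H897 Cfsg.Agent.H897.T5Cent

universe u v

variable {D : ChevalleyDatum} {l : ℕ} {M : CoxeterMatrix (Fin l)} (hp : IsType D l M) {k : Type u} [Field k]
  [IsAlgClosed k] {W : Type v} [Group W] [Finite W] (cs : CoxeterSystem M W) (hk : LocFin k) (r : ℕ) [Fact r.Prime]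
  [CharP k r] {N : ℕ} (hN : N ≠ 0) (hNr : N.Coprime r)

include hN hNr in
/-- a primitive root of unity -/
theorem exists_prim : ∃ ζ : k, IsPrimitiveRoot ζ N := by
  have : NeZero (N : k) := ⟨by
    intro h0
    have h1 : r ∣ N := (CharP.cast_eq_zero_iff k r N).1 h0
    have h2 := Nat.dvd_gcd h1 dvd_rfl
    rw [hNr] at h2
    exact (Fact.out : r.Prime).one_lt.ne' (Nat.dvd_one.1 h2)⟩
  have : NeZero N := ⟨hN⟩
  exact HasEnoughRootsOfUnity.exists_primitiveRoot k N

variable {B : Fin l → Fin l → ℤ} {d : ℕ} (hB : InvC D l d B) (hpd : d.Coprime N)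

include hN hB hpd in
/-- **The character of an element of order `N` is the pairing with a lattice vector.** -/
theorem exists_mu {ζ : k} (hζ : IsPrimitiveRoot ζ N) {t : ↥(D.group k)} (ht : t ∈ TT D k) (htp : t ^ N = 1) :
    ∃ μ : Fin l → ℤ, ∀ x, cX hp t x = ζ ^ (bf (cartanOf D l) μ x) := by
  have hζ0 : ζ ≠ 0 := hζ.ne_zero hN
  have h1 : ∀ i : Fin l, ∃ c : ℕ, ζ ^ c = cX hp t (sr i) := by
    intro i
    have h2 : cX hp t (sr i) ^ N = 1 := by rw [← cX_pow hp ht, htp, cX_one]
    have : NeZero N := ⟨hN⟩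
    obtain ⟨c, -, hc⟩ := hζ.eq_pow_of_pow_eq_one h2
    exact ⟨c, hc⟩
  choose c hc using h1
  obtain ⟨u, hu⟩ : ∃ u : ℤ, (N : ℤ) ∣ u * d - 1 := by
    have h2 : IsCoprime (d : ℤ) (N : ℤ) := Nat.isCoprime_iff_coprime.2 hpd
    obtain ⟨a, b, hab⟩ := h2
    exact ⟨a, ⟨-b, by linarith⟩⟩
  have hud : ζ ^ (u * d) = ζ := by
    obtain ⟨v, hv⟩ := hu
    have : u * d = 1 + N * v := by linarith
    rw [this, zpow_add₀ hζ0, zpow_one, zpow_mul, zpow_natCast, hζ.pow_eq_one, one_zpow, mul_one]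
  refine ⟨fun i => u * ∑ m, (c m : ℤ) * B m i, fun x => ?_⟩
  have h2 : bf (cartanOf D l) (fun i => u * ∑ m, (c m : ℤ) * B m i) x = (u * d) * ∑ j, (c j : ℤ) * x j := by
    rw [bf_apply, Finset.sum_comm, Finset.mul_sum]
    refine Finset.sum_congr rfl fun j _ => ?_
    have h3 : ∀ m, ∑ i, B m i * cartanOf D l i j = if m = j then (d : ℤ) else 0 := fun m => hB m j
    calc ∑ i, u * (∑ m, (c m : ℤ) * B m i) * cartanOf D l i j * x j
        = u * (∑ i, ∑ m, (c m : ℤ) * (B m i * cartanOf D l i j)) * x j := by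
          rw [Finset.mul_sum, Finset.sum_mul]
          refine Finset.sum_congr rfl fun i _ => ?_
          have : ∑ m, (c m : ℤ) * (B m i * cartanOf D l i j) = (∑ m, (c m : ℤ) * B m i) * cartanOf D l i j := by
            rw [Finset.sum_mul]
            exact Finset.sum_congr rfl fun m _ => by ring
          rw [this]; ring
      _ = u * (∑ m, (c m : ℤ) * ∑ i, B m i * cartanOf D l i j) * x j := by
          rw [Finset.sum_comm]
          congr 2
          refine Finset.sum_congr rfl fun m _ => ?_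
          rw [Finset.mul_sum]
      _ = u * ((c j : ℤ) * d) * x j := by
          congr 2
          rw [Finset.sum_eq_single j]
          · rw [h3, if_pos rfl]
          · intro m _ hm
            rw [h3, if_neg hm, mul_zero]
          · intro hj; exact absurd (Finset.mem_univ j) hj
      _ = _ := by ring
  rw [h2, zpow_mul, hud]
  rw [(isMC_cX hp ht).eq_prod x]
  have h3 : ∀ s : Finset (Fin l), ∏ i ∈ s, cX hp t (sr i) ^ x i = ζ ^ (∑ j ∈ s, (c j : ℤ) * x j) := by
    intro s
    classical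
    induction s using Finset.induction_on with
    | empty => rw [Finset.prod_empty, Finset.sum_empty, zpow_zero]
    | insert a s ha ih =>
      rw [Finset.prod_insert ha, Finset.sum_insert ha, ih, zpow_add₀ hζ0, ← hc a, ← zpow_natCast, ← zpow_mul]
  exact h3 _

include hN hNr hB hpd in
/-- **Simply laced groups, order prime to the determinant and to the characteristic.** -/
theorem con_of_coprime (F : Frm cs hp.isCartan (bf (cartanOf D l))) : Con hp cs hk r N := by
  intro t ht htp w hw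
  obtain ⟨ζ, hζ⟩ := exists_prim (k := k) r hN hNr
  obtain ⟨μ, hμ⟩ := exists_mu hp hN hB hpd hζ ht htp
  have h1 : ∀ x, cX hp t (repAut cs hp.isCartan w x) = cX hp t x := by
    have h2 : IsMC fun x => cX hp t (repAut cs hp.isCartan w x) :=
      (isMC_cX hp ht).comp (repAut cs hp.isCartan w).toAddMonoidHom
    refine fun x => h2.ext (isMC_cX hp ht) (fun i => ?_) x
    show cX hp t (rep cs hp.isCartan w (sr i)) = _
    rw [cX_root hp cs ht ((isRoot_sr cs hp.isCartan i).act w), cX_root hp cs ht (isRoot_sr cs hp.isCartan i)]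
    exact hw _ (isRoot_sr cs hp.isCartan i) t rfl
  obtain ⟨l0, hl0⟩ := T5Cent.fix_class hp cs hB hpd F hζ hN hμ (θ := repAut cs hp.isCartan w)
    (fun x y => F.inv w x y) h1
  exact T5Cent.VV_le hp cs hk r hζ ht F hμ (T5Lat.mem_VV_of_rep F (Nat.pos_of_ne_zero hN) hl0)

end Cfsg.Agent.H413.L64
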